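import Mathlib
import Cfsg.Agent.Lib.Helper4.Sylow
import Cfsg.Agent.Lib.Helper4.Simple
import Cfsg.Agent.S0904

/-! Order 720, step (A0): for two Sylow 3-subgroups `P ≠ Q` with `P ⊓ Q ≠ ⊥`, the centralizer
`L = C(P ⊓ Q)` has order 36 or 72 and contains `P` and `Q` (helper5, for S0496; proof by lead). -/

set_option autoImplicit false

namespace Cfsg.Agent.Lib.Helper5.Ord720

open Cfsg.Agent.Lib.Helper4.Sylow Cfsg.Agent.Lib.Helper4.Simple

section
variable {G : Type*} [Group G] [Finite G] [IsSimpleGroup G]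

theorem index_ge_eight (hn : Nat.card G = 720) (H : Subgroup G) (hH : H ≠ ⊤) : 8 ≤ H.index := by
  by_contra h
  push Not at h
  have h1 := two_mul_card_dvd_factorial_of_simple (by rw [hn]; norm_num) H hH
  rw [hn] at h1
  have h2 : (H.index).factorial ∣ (7).factorial := Nat.factorial_dvd_factorial (by omega)
  have h3 : 2 * 720 ∣ Nat.factorial 7 := h1.trans h2
  revert h3
  decide

theorem card_le_90 (hn : Nat.card G = 720) (H : Subgroup G) (hH : H ≠ ⊤) : Nat.card H ≤ 90 := by
  have h1 := H.card_mul_index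
  rw [hn] at h1
  have h2 := index_ge_eight hn H hH
  nlinarith

theorem ne_top_of_card (hn : Nat.card G = 720) (D : Subgroup G) (h1 : Nat.card D ≠ 1)
    (h2 : Nat.card D ≠ 720) : Subgroup.normalizer (D : Set G) ≠ ⊤ := by
  intro h
  have hN : D.Normal := Subgroup.normalizer_eq_top_iff.1 h
  rcases hN.eq_bot_or_eq_top with hb | ht
  · apply h1; rw [hb]; exact Subgroup.card_bot
  · apply h2; rw [ht, Subgroup.card_top, hn]

theorem card_mul_relIndex {H K : Subgroup G} (h : H ≤ K) :
    Nat.card H * H.relIndex K = Nat.card K := by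
  have h1 := (H.subgroupOf K).card_mul_index
  rw [← Subgroup.relIndex] at h1
  rw [← h1]
  congr 1
  exact (Nat.card_congr (Subgroup.subgroupOfEquivOfLe h).toEquiv).symm

theorem prime3 : Fact (Nat.Prime 3) := ⟨by norm_num⟩
theorem prime5 : Fact (Nat.Prime 5) := ⟨by norm_num⟩
theorem prime2 : Fact (Nat.Prime 2) := ⟨by norm_num⟩

theorem card_P3 (hn : Nat.card G = 720) [Fact (Nat.Prime 3)] (P : Sylow 3 G) :
    Nat.card (P : Subgroup G) = 9 := by
  have hn' : Nat.card G = 3 ^ 2 * 80 := by rw [hn]; norm_num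
  have := card_sylow_of_card_eq hn' (by norm_num) P
  rw [show Nat.card (P : Subgroup G) = Nat.card P from rfl, this]
  norm_num

theorem card_P5 (hn : Nat.card G = 720) [Fact (Nat.Prime 5)] (P : Sylow 5 G) :
    Nat.card (P : Subgroup G) = 5 := by
  have hn' : Nat.card G = 5 ^ 1 * 144 := by rw [hn]; norm_num
  have := card_sylow_of_card_eq hn' (by norm_num) P
  rw [show Nat.card (P : Subgroup G) = Nat.card P from rfl, this]
  norm_num

theorem card_P2 (hn : Nat.card G = 720) [Fact (Nat.Prime 2)] (P : Sylow 2 G) :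
    Nat.card (P : Subgroup G) = 16 := by
  have hn' : Nat.card G = 2 ^ 4 * 45 := by rw [hn]; norm_num
  have := card_sylow_of_card_eq hn' (by norm_num) P
  rw [show Nat.card (P : Subgroup G) = Nat.card P from rfl, this]
  norm_num

theorem comm_P3 (hn : Nat.card G = 720) [Fact (Nat.Prime 3)] (P : Sylow 3 G) {a b : G}
    (ha : a ∈ (P : Subgroup G)) (hb : b ∈ (P : Subgroup G)) : a * b = b * a := by
  have hc : Nat.card (P : Subgroup G) = 3 ^ 2 := by rw [card_P3 hn P]; norm_num
  have h := (IsPGroup.isMulCommutative_of_card_eq_prime_sq hc).is_comm.comm ⟨a, ha⟩ ⟨b, hb⟩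
  exact congrArg Subtype.val h

/-- an element of 3-power order commuting with an element of order 5 is trivial (`C(P₅) = P₅`). -/
theorem eq_one_of_comm (hn : Nat.card G = 720) {x d : G} (hx : orderOf x = 5) (hd : d ^ 9 = 1)
    (hcomm : x * d = d * x) : d = 1 := by
  haveI : Fact (Nat.Prime 5) := prime5
  have hxp : IsPGroup 5 (Subgroup.zpowers x) := by
    apply IsPGroup.of_card (n := 1)
    rw [Nat.card_zpowers, hx, pow_one]
  obtain ⟨S, hS⟩ := hxp.exists_le_sylow
  have hSc := card_P5 hn S
  have hSeq : Subgroup.zpowers x = S := by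
    apply Subgroup.eq_of_le_of_card_ge hS
    rw [hSc, Nat.card_zpowers, hx]
  have hC := Cfsg.Agent.S0904.result (G := G) 2 3 5 4 2 (by norm_num) (by norm_num) (by norm_num)
    (by norm_num) (by norm_num) (by rw [hn]; norm_num) S
  have hdC : d ∈ Subgroup.centralizer ((S : Subgroup G) : Set G) := by
    rw [Subgroup.mem_centralizer_iff]
    intro y hy
    rw [SetLike.mem_coe, ← hSeq, Subgroup.mem_zpowers_iff] at hy
    obtain ⟨k, rfl⟩ := hy
    exact ((Commute.zpow_left (show Commute x d from hcomm) k)).eq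
  rw [show Subgroup.centralizer ((S : Subgroup G) : Set G) = (S : Subgroup G) from hC] at hdC
  have h5 : d ^ 5 = 1 := by
    have := pow_card_eq_one' (G := (S : Subgroup G)) (x := (⟨d, hdC⟩ : (S : Subgroup G)))
    rw [hSc] at this
    exact congrArg Subtype.val this
  calc d = (d ^ 5) ^ 2 * (d ^ 9)⁻¹ := by group
    _ = 1 := by rw [h5, hd]; simp

/-- step (A0). -/
theorem cardL (hn : Nat.card G = 720) [Fact (Nat.Prime 3)] {P Q : Sylow 3 G} (hPQ : P ≠ Q)
    (hD : (P : Subgroup G) ⊓ Q ≠ ⊥) :
    (Nat.card (Subgroup.centralizer (((P : Subgroup G) ⊓ Q : Subgroup G) : Set G)) = 36 ∨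
      Nat.card (Subgroup.centralizer (((P : Subgroup G) ⊓ Q : Subgroup G) : Set G)) = 72) ∧
    (P : Subgroup G) ≤ Subgroup.centralizer (((P : Subgroup G) ⊓ Q : Subgroup G) : Set G) ∧
    (Q : Subgroup G) ≤ Subgroup.centralizer (((P : Subgroup G) ⊓ Q : Subgroup G) : Set G) := by
  set D := (P : Subgroup G) ⊓ Q with hDdef
  set L := Subgroup.centralizer ((D : Subgroup G) : Set G) with hL
  have hPc := card_P3 hn P
  have hQc := card_P3 hn Q
  have hPL : (P : Subgroup G) ≤ L := by
    intro p hp
    rw [Subgroup.mem_centralizer_iff]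
    intro d hd
    exact comm_P3 hn P (Subgroup.mem_inf.1 hd).1 hp
  have hQL : (Q : Subgroup G) ≤ L := by
    intro q hq
    rw [Subgroup.mem_centralizer_iff]
    intro d hd
    exact comm_P3 hn Q (Subgroup.mem_inf.1 hd).2 hq
  refine ⟨?_, hPL, hQL⟩
  -- D has order 3
  have hDP : D ≤ P := inf_le_left
  have hDcard : Nat.card D = 3 := by
    have h := Subgroup.card_dvd_of_le hDP
    rw [hPc] at h
    have h1 : Nat.card D ≠ 1 := fun h => hD (Subgroup.card_eq_one.1 h)
    have h9 : Nat.card D ≠ 9 := by
      intro h9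
      have hDeqP : D = P := Subgroup.eq_of_le_of_card_ge hDP (by rw [h9, hPc])
      have hPleQ : (P : Subgroup G) ≤ Q := by rw [← hDeqP]; exact inf_le_right
      have : (P : Subgroup G) = Q := Subgroup.eq_of_le_of_card_ge hPleQ (by rw [hPc, hQc])
      exact hPQ (Sylow.ext this)
    have hle : Nat.card D ≤ 9 := Nat.le_of_dvd (by norm_num) h
    generalize Nat.card D = d at *
    interval_cases d <;> omega
  -- L ≠ ⊤
  have hLne : L ≠ ⊤ := by
    intro h
    have hDle : D ≤ Subgroup.center G := by
      intro d hd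
      rw [Subgroup.mem_center_iff]
      intro g
      have hg : g ∈ L := by rw [h]; exact Subgroup.mem_top g
      exact (Subgroup.mem_centralizer_iff.1 hg d hd).symm
    have hcn : (Subgroup.center G).Normal := inferInstance
    rcases hcn.eq_bot_or_eq_top with hb | ht
    · rw [hb] at hDle
      exact hD (le_bot_iff.1 hDle)
    · -- G commutative: P normal
      have hPn : Subgroup.normalizer ((P : Subgroup G) : Set G) ≠ ⊤ :=
        ne_top_of_card hn _ (by rw [hPc]; norm_num) (by rw [hPc]; norm_num)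
      apply hPn
      rw [Subgroup.eq_top_iff']
      intro g
      rw [Subgroup.mem_normalizer_iff]
      intro x
      have hg : g ∈ Subgroup.center G := by rw [ht]; exact Subgroup.mem_top g
      have : g * x * g⁻¹ = x := by
        rw [(Subgroup.mem_center_iff.1 hg x).symm]
        group
      rw [this]
  have h90 := card_le_90 hn L hLne
  -- 9 ∣ |L|
  have h9 : 9 ∣ Nat.card L := by
    rw [← hPc]
    exact Subgroup.card_dvd_of_le hPL
  have h720 : Nat.card L ∣ 720 := by
    rw [← hn]
    exact Subgroup.card_subgroup_dvd_card L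
  -- 5 ∤ |L|
  have h5 : ¬ 5 ∣ Nat.card L := by
    intro h5
    have : Fact (Nat.Prime 5) := prime5
    obtain ⟨x, hx⟩ := exists_prime_orderOf_dvd_card' (G := L) 5 h5
    obtain ⟨d, hdD, hd1⟩ : ∃ d ∈ D, d ≠ 1 := by
      by_contra hcon
      push Not at hcon
      exact hD ((Subgroup.eq_bot_iff_forall _).2 hcon)
    apply hd1
    apply eq_one_of_comm hn (x := (x : G)) (by rw [Subgroup.orderOf_coe]; exact hx)
    · have := pow_card_eq_one' (G := (P : Subgroup G))
        (x := (⟨d, hDP hdD⟩ : (P : Subgroup G)))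
      rw [hPc] at this
      exact congrArg Subtype.val this
    · exact (Subgroup.mem_centralizer_iff.1 x.2 d hdD).symm
  -- 27 ≤ |L|
  have h27 : 27 ≤ Nat.card L := by
    have hDL : D ≤ L := hDP.trans hPL
    have h1 := Subgroup.relIndex_inf_le (H := (P : Subgroup G)) (K := (Q : Subgroup G)) (L := L)
    have hP' := card_mul_relIndex hPL
    have hQ' := card_mul_relIndex hQL
    have hD' := card_mul_relIndex hDL
    rw [hPc] at hP'
    rw [hQc] at hQ'
    rw [hDcard] at hD'
    rw [← hDdef] at h1
    have hpos : 0 < Nat.card L := Nat.card_pos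
    generalize (P : Subgroup G).relIndex L = rP at *
    generalize (Q : Subgroup G).relIndex L = rQ at *
    generalize D.relIndex L = rD at *
    have h3 : 3 ≤ rP := by
      by_contra hlt
      push Not at hlt
      have hQP : rQ = rP := by omega
      subst hQP
      interval_cases rQ <;> omega
    omega
  generalize Nat.card L = l at *
  interval_cases l <;> omega

end

end Cfsg.Agent.Lib.Helper5.Ord720
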