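import Mathlib
import Cfsg.Agent.Lib.Helper5.Ord.Ord720A0

/-! Order 720, step (A1): a subgroup `L` of order 36 containing two distinct Sylow 3-subgroups of
`G` gives `M = N(V)` of order 72 with `V ⊴ M` of order 4 (helper5, for S0496; proof by lead). -/

set_option autoImplicit false

namespace Cfsg.Agent.Lib.Helper5.Ord720

open Cfsg.Agent.Lib.Helper4.Sylow Cfsg.Agent.Lib.Helper4.Simple

section
variable {G : Type*} [Group G] [Finite G] [IsSimpleGroup G]

/-- Burnside in a group of order 36 with two distinct Sylow 3-subgroups: a normal subgroup of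
order 4. -/
theorem normal_four_of_card36 {L : Type*} [Group L] [Finite L] [Fact (Nat.Prime 3)]
    (hL : Nat.card L = 36) (P Q : Sylow 3 L) (hPQ : P ≠ Q) :
    ∃ K : Subgroup L, K.Normal ∧ Nat.card K = 4 := by
  have hL' : Nat.card L = 3 ^ 2 * 4 := by rw [hL]; norm_num
  have hPc : Nat.card (P : Subgroup L) = 9 := by
    have := card_sylow_of_card_eq hL' (by norm_num) P
    rw [show Nat.card (P : Subgroup L) = Nat.card P from rfl, this]; norm_num
  have hdvd : Nat.card (Sylow 3 L) ∣ 4 := card_sylow_dvd_of_card_eq hL' (by norm_num)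
  have hmod : Nat.card (Sylow 3 L) % 3 = 1 % 3 := card_sylow_modEq_one 3 L
  have hne1 : Nat.card (Sylow 3 L) ≠ 1 := by
    intro h
    have hsub : Subsingleton (Sylow 3 L) := (Nat.card_eq_one_iff_unique.mp h).1
    exact hPQ (Subsingleton.elim P Q)
  have hn3 : Nat.card (Sylow 3 L) = 4 := by
    have hle : Nat.card (Sylow 3 L) ≤ 4 := Nat.le_of_dvd (by norm_num) hdvd
    generalize Nat.card (Sylow 3 L) = d at *
    interval_cases d <;> omega
  have hN := card_sylow_mul_card_normalizer P
  rw [hn3, hL] at hN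
  have hNc : Nat.card (Subgroup.normalizer ((P : Subgroup L) : Set L)) = 9 := by omega
  have hNP : Subgroup.normalizer ((P : Subgroup L) : Set L) = P := by
    symm
    apply Subgroup.eq_of_le_of_card_ge Subgroup.le_normalizer
    rw [hNc, hPc]
  have hcomm : IsMulCommutative (P : Subgroup L) :=
    IsPGroup.isMulCommutative_of_card_eq_prime_sq (p := 3) (by rw [hPc]; norm_num)
  have hle : Subgroup.normalizer ((P : Subgroup L) : Set L) ≤
      Subgroup.centralizer ((P : Subgroup L) : Set L) := by
    rw [hNP]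
    exact Subgroup.le_centralizer (P : Subgroup L)
  have hcompl := MonoidHom.ker_transferSylow_isComplement' P hle
  refine ⟨(MonoidHom.transferSylow P hle).ker, MonoidHom.normal_ker _, ?_⟩
  have hcard := hcompl.card_mul_card
  rw [hPc, hL] at hcard
  omega

/-- step (A1). -/
theorem case36 (hn : Nat.card G = 720) [Fact (Nat.Prime 3)] (L : Subgroup G)
    (hL : Nat.card L = 36)
    (hPQ : ∃ P Q : Sylow 3 G, P ≠ Q ∧ (P : Subgroup G) ≤ L ∧ (Q : Subgroup G) ≤ L) :
    ∃ M V : Subgroup G, Nat.card M = 72 ∧ Nat.card V = 4 ∧ V ≤ M ∧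
      M ≤ Subgroup.normalizer (V : Set G) := by
  obtain ⟨P, Q, hne, hPL, hQL⟩ := hPQ
  have hne' : P.subtype hPL ≠ Q.subtype hQL := fun h => hne (Sylow.subtype_injective h)
  obtain ⟨K, hKn, hKc⟩ := normal_four_of_card36 (L := L) hL (P.subtype hPL) (Q.subtype hQL) hne'
  set V : Subgroup G := K.map L.subtype with hV
  have hVc : Nat.card V = 4 := by
    rw [hV, Subgroup.card_map_of_injective (Subgroup.subtype_injective L), hKc]
  have hVL : V ≤ L := Subgroup.map_subtype_le K
  have hVK : V.subgroupOf L = K :=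
    Subgroup.comap_map_eq_self_of_injective (Subgroup.subtype_injective L) K
  have hLN : L ≤ Subgroup.normalizer (V : Set G) := by
    apply (Subgroup.normal_subgroupOf_iff_le_normalizer hVL).1
    rw [hVK]
    exact hKn
  -- a Sylow 2-subgroup containing V
  haveI : Fact (Nat.Prime 2) := prime2
  have hV2 : IsPGroup 2 V := IsPGroup.of_card (n := 2) (by rw [hVc]; norm_num)
  obtain ⟨S, hVS⟩ := hV2.exists_le_sylow
  have hSc := card_P2 hn S
  set N := Subgroup.normalizer (V : Set G) with hN
  have hNS : 8 ∣ Nat.card (N ⊓ (S : Subgroup G) : Subgroup G) := by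
    haveI : Group.IsNilpotent (S : Subgroup G) := (S.isPGroup').isNilpotent
    have hcond := normalizerCondition_of_isNilpotent (G := (S : Subgroup G))
    have hlt : V.subgroupOf S < ⊤ := by
      rw [lt_top_iff_ne_top]
      intro h
      have := Subgroup.card_le_of_le (Subgroup.subgroupOf_eq_top.1 h)
      rw [hSc, hVc] at this
      omega
    have h1 := hcond _ hlt
    rw [← Subgroup.subgroupOf_normalizer_eq hVS] at h1
    -- cardinalities
    have hc1 : Nat.card (V.subgroupOf S) = 4 := by
      rw [← hVc]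
      exact Nat.card_congr (Subgroup.subgroupOfEquivOfLe hVS).toEquiv
    have hc2 : Nat.card (N.subgroupOf S) = Nat.card (N ⊓ (S : Subgroup G) : Subgroup G) := by
      rw [← Subgroup.inf_subgroupOf_right]
      exact Nat.card_congr (Subgroup.subgroupOfEquivOfLe inf_le_right).toEquiv
    have hne4 : Nat.card (N.subgroupOf S) ≠ 4 := by
      intro h
      have := Subgroup.eq_of_le_of_card_ge h1.le (by rw [h, hc1])
      exact h1.ne this
    have hdvd4 : 4 ∣ Nat.card (N.subgroupOf S) := by
      rw [← hc1]
      exact Subgroup.card_dvd_of_le h1.le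
    have hdvd16 : Nat.card (N.subgroupOf S) ∣ 16 := by
      rw [← hSc]
      exact Subgroup.card_subgroup_dvd_card _
    rw [← hc2]
    have hle : Nat.card (N.subgroupOf S) ≤ 16 := Nat.le_of_dvd (by norm_num) hdvd16
    generalize Nat.card (N.subgroupOf S) = d at *
    interval_cases d <;> omega
  have hN8 : 8 ∣ Nat.card N := hNS.trans (Subgroup.card_dvd_of_le inf_le_left)
  have hN36 : 36 ∣ Nat.card N := by
    rw [← hL]
    exact Subgroup.card_dvd_of_le hLN
  have hNne : N ≠ ⊤ := ne_top_of_card hn V (by rw [hVc]; norm_num) (by rw [hVc]; norm_num)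
  have h90 := card_le_90 hn N hNne
  have hNc : Nat.card N = 72 := by
    have hpos : 0 < Nat.card N := Nat.card_pos
    omega
  exact ⟨N, V, hNc, hVc, Subgroup.le_normalizer, le_rfl⟩

end

end Cfsg.Agent.Lib.Helper5.Ord720
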