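import Mathlib
import Cfsg.Agent.Lib.Helper5.Ord.Ord720A0

/-! Order 720, numerics of the case `|C(D)| = 72` of step (A): commuting elements `d, e` of order 3
with `e ∉ ⟨d⟩`, both centralized by an element `y` of order 4, give `M = N(E)` of order 72 and
`V = ⟨y⟩ ⊴ M` (helper5, for S0496; proof by lead). -/

set_option autoImplicit false

namespace Cfsg.Agent.Lib.Helper5.Ord720

open Cfsg.Agent.Lib.Helper4.Sylow Cfsg.Agent.Lib.Helper4.Simple

section
variable {G : Type*} [Group G] [Finite G] [IsSimpleGroup G]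

theorem zpowers_le_centralizer_zpowers {a b : G} (h : a * b = b * a) :
    Subgroup.zpowers a ≤ Subgroup.centralizer ((Subgroup.zpowers b : Subgroup G) : Set G) := by
  rw [Subgroup.zpowers_le, Subgroup.mem_centralizer_iff]
  intro x hx
  rw [SetLike.mem_coe, Subgroup.mem_zpowers_iff] at hx
  obtain ⟨k, rfl⟩ := hx
  exact (Commute.zpow_left (show Commute b a from h.symm) k).eq

theorem case72_numerics (hn : Nat.card G = 720) (d e y : G) (hd : orderOf d = 3)
    (he : orderOf e = 3) (hde : d * e = e * d) (hne : e ∉ Subgroup.zpowers d)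
    (hy : orderOf y = 4) (hyd : y * d = d * y) (hye : y * e = e * y) :
    ∃ M V : Subgroup G, Nat.card M = 72 ∧ Nat.card V = 4 ∧ V ≤ M ∧
      M ≤ Subgroup.normalizer (V : Set G) := by
  haveI : Fact (Nat.Prime 3) := prime3
  -- E = ⟨d⟩ ⊔ ⟨e⟩ is a Sylow 3-subgroup
  have hdp : IsPGroup 3 (Subgroup.zpowers d) :=
    IsPGroup.of_card (n := 1) (by rw [Nat.card_zpowers, hd, pow_one])
  have hep : IsPGroup 3 (Subgroup.zpowers e) :=
    IsPGroup.of_card (n := 1) (by rw [Nat.card_zpowers, he, pow_one])
  have hEp : IsPGroup 3 (Subgroup.zpowers d ⊔ Subgroup.zpowers e : Subgroup G) :=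
    IsPGroup.to_sup_of_normal_right' hdp hep
      ((zpowers_le_centralizer_zpowers hde).trans (Subgroup.centralizer_le_normalizer _))
  obtain ⟨P, hEP⟩ := hEp.exists_le_sylow
  have hPc := card_P3 hn P
  have hdP : d ∈ (P : Subgroup G) := hEP (Subgroup.mem_sup_left (Subgroup.mem_zpowers d))
  have heP : e ∈ (P : Subgroup G) := hEP (Subgroup.mem_sup_right (Subgroup.mem_zpowers e))
  have hEeq : (Subgroup.zpowers d ⊔ Subgroup.zpowers e : Subgroup G) = P := by
    apply Subgroup.eq_of_le_of_card_ge hEP
    have h1 := Subgroup.card_dvd_of_le hEP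
    rw [hPc] at h1 ⊢
    have h3 : 3 ∣ Nat.card (Subgroup.zpowers d ⊔ Subgroup.zpowers e : Subgroup G) := by
      have := Subgroup.card_dvd_of_le (le_sup_left : Subgroup.zpowers d ≤ Subgroup.zpowers d ⊔ Subgroup.zpowers e)
      rwa [Nat.card_zpowers, hd] at this
    have hne3 : Nat.card (Subgroup.zpowers d ⊔ Subgroup.zpowers e : Subgroup G) ≠ 3 := by
      intro h
      apply hne
      have := Subgroup.eq_of_le_of_card_ge
        (le_sup_left : Subgroup.zpowers d ≤ Subgroup.zpowers d ⊔ Subgroup.zpowers e)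
        (by rw [h, Nat.card_zpowers, hd])
      rw [this]
      exact Subgroup.mem_sup_right (Subgroup.mem_zpowers e)
    have hle : Nat.card (Subgroup.zpowers d ⊔ Subgroup.zpowers e : Subgroup G) ≤ 9 :=
      Nat.le_of_dvd (by norm_num) h1
    generalize Nat.card (Subgroup.zpowers d ⊔ Subgroup.zpowers e : Subgroup G) = c at *
    interval_cases c <;> omega
  set V := Subgroup.zpowers y with hV
  have hVc : Nat.card V = 4 := by rw [hV, Nat.card_zpowers, hy]
  set C := Subgroup.centralizer ((P : Subgroup G) : Set G) with hC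
  set N := Subgroup.normalizer ((P : Subgroup G) : Set G) with hN
  have hCN : C ≤ N := Subgroup.centralizer_le_normalizer _
  have hPC : (P : Subgroup G) ≤ C := by
    intro p hp
    rw [Subgroup.mem_centralizer_iff]
    intro x hx
    exact comm_P3 hn P hx hp
  have hVC : V ≤ C := by
    rw [Subgroup.le_centralizer_iff, ← hEeq]
    exact sup_le (zpowers_le_centralizer_zpowers hyd.symm) (zpowers_le_centralizer_zpowers hye.symm)
  have h36C : 36 ∣ Nat.card C := by
    have h9 : 9 ∣ Nat.card C := by rw [← hPc]; exact Subgroup.card_dvd_of_le hPC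
    have h4 : 4 ∣ Nat.card C := by rw [← hVc]; exact Subgroup.card_dvd_of_le hVC
    omega
  have hNne : N ≠ ⊤ := ne_top_of_card hn _ (by rw [hPc]; norm_num) (by rw [hPc]; norm_num)
  have hN90 := card_le_90 hn N hNne
  have hCdN : Nat.card C ∣ Nat.card N := Subgroup.card_dvd_of_le hCN
  have hNmul := card_sylow_mul_card_normalizer P
  rw [hn] at hNmul
  have hmod : Nat.card (Sylow 3 G) % 3 = 1 % 3 := card_sylow_modEq_one 3 G
  have hNc : Nat.card N = 72 := by
    have h36N : 36 ∣ Nat.card N := h36C.trans hCdN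
    have hpos : 0 < Nat.card N := Nat.card_pos
    have hcases : Nat.card N = 36 ∨ Nat.card N = 72 := by omega
    rcases hcases with h | h
    · exfalso
      rw [← hN, h] at hNmul
      have : Nat.card (Sylow 3 G) = 20 := by omega
      rw [this] at hmod
      omega
    · exact h
  have hCc : Nat.card C = 36 := by
    have hpos : 0 < Nat.card C := Nat.card_pos
    rw [hNc] at hCdN
    have hle : Nat.card C ≤ 72 := Nat.le_of_dvd (by norm_num) hCdN
    have hcases : Nat.card C = 36 ∨ Nat.card C = 72 := by omega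
    rcases hcases with h | h
    · exact h
    · exfalso
      have hNC : N ≤ C := by
        have := Subgroup.eq_of_le_of_card_ge hCN (by rw [h, hNc])
        rw [this]
      exact false_of_simple_of_normalizer_le_centralizer P hNC
        (by rw [show Nat.card P = Nat.card (P : Subgroup G) from rfl, hPc]; norm_num)
        (by rw [show Nat.card P = Nat.card (P : Subgroup G) from rfl, hPc, hn]; norm_num)
  -- elements of C of order dividing 4 lie in V
  have hkey : ∀ c ∈ C, c ^ 4 = 1 → c ∈ V := by
    intro c hc hc4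
    have hcompl : Subgroup.IsComplement' ((P : Subgroup G).subgroupOf C) (V.subgroupOf C) := by
      apply Subgroup.isComplement'_of_coprime
      · rw [Nat.card_congr (Subgroup.subgroupOfEquivOfLe hPC).toEquiv,
          Nat.card_congr (Subgroup.subgroupOfEquivOfLe hVC).toEquiv, hPc, hVc, hCc]
      · rw [Nat.card_congr (Subgroup.subgroupOfEquivOfLe hPC).toEquiv,
          Nat.card_congr (Subgroup.subgroupOfEquivOfLe hVC).toEquiv, hPc, hVc]
        norm_num
    obtain ⟨⟨p, v⟩, hpv, -⟩ := (Subgroup.isComplement'_def.1 hcompl).existsUnique ⟨c, hc⟩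
    have hpv' : (p : C).1 * (v : C).1 = c := congrArg Subtype.val hpv
    have hpP : ((p : C) : G) ∈ (P : Subgroup G) := Subgroup.mem_subgroupOf.1 p.2
    have hvV : ((v : C) : G) ∈ V := Subgroup.mem_subgroupOf.1 v.2
    have hcomm : Commute ((p : C) : G) ((v : C) : G) :=
      (Subgroup.mem_centralizer_iff.1 (hVC hvV) _ hpP)
    have hv4 : ((v : C) : G) ^ 4 = 1 := by
      have := pow_card_eq_one' (G := V) (x := (⟨_, hvV⟩ : V))
      rw [hVc] at this
      exact congrArg Subtype.val this
    have hp9 : ((p : C) : G) ^ 9 = 1 := by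
      have := pow_card_eq_one' (G := (P : Subgroup G)) (x := (⟨_, hpP⟩ : (P : Subgroup G)))
      rw [hPc] at this
      exact congrArg Subtype.val this
    have hp4 : ((p : C) : G) ^ 4 = 1 := by
      have := hc4
      rw [← hpv', hcomm.mul_pow, hv4, mul_one] at this
      exact this
    have hp1 : ((p : C) : G) = 1 := by
      calc ((p : C) : G) = (((p : C) : G) ^ 9) * ((((p : C) : G) ^ 4) ^ 2)⁻¹ := by group
        _ = 1 := by rw [hp9, hp4]; simp
    rw [← hpv', hp1, one_mul]
    exact hvV
  -- N normalizes V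
  have hconj : ∀ n ∈ N, ∀ v ∈ V, n * v * n⁻¹ ∈ V := by
    intro n hn' v hv
    apply hkey
    · rw [Subgroup.mem_centralizer_iff]
      intro x hx
      have hx' : n⁻¹ * x * n ∈ (P : Subgroup G) := by
        have := (Subgroup.mem_normalizer_iff''.1 hn' x).1 hx
        exact this
      have hcv := Subgroup.mem_centralizer_iff.1 (hVC hv) _ hx'
      calc x * (n * v * n⁻¹) = n * ((n⁻¹ * x * n) * v) * n⁻¹ := by group
        _ = n * (v * (n⁻¹ * x * n)) * n⁻¹ := by rw [hcv]
        _ = n * v * n⁻¹ * x := by group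
    · have hv4 : v ^ 4 = 1 := by
        have := pow_card_eq_one' (G := V) (x := (⟨v, hv⟩ : V))
        rw [hVc] at this
        exact congrArg Subtype.val this
      rw [conj_pow, hv4]
      simp
  refine ⟨N, V, hNc, hVc, hVC.trans hCN, ?_⟩
  intro n hn'
  rw [Subgroup.mem_normalizer_iff]
  intro h
  constructor
  · exact hconj n hn' h
  · intro hh
    have := hconj n⁻¹ (Subgroup.inv_mem _ hn') _ hh
    have h2 : n⁻¹ * (n * h * n⁻¹) * n⁻¹⁻¹ = h := by group
    rwa [h2] at this

end

end Cfsg.Agent.Lib.Helper5.Ord720
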