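import Mathlib
import Cfsg.Agent.Lib.Helper5.Ord.Ord720A0

/-! Order 720, step (K'): a subgroup `M` of order 72 has no normal subgroup `V` of order 4
(given step (2)) (helper5, for S0496; proof by lead, sketch by helper8). -/

set_option autoImplicit false

namespace Cfsg.Agent.Lib.Helper5.Ord720

open Cfsg.Agent.Lib.Helper4.Sylow Cfsg.Agent.Lib.Helper4.Simple

section
variable {G : Type*} [Group G] [Finite G] [IsSimpleGroup G]

theorem normalizer_eq_self_of_card_72 (hn : Nat.card G = 720) (M : Subgroup G)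
    (hM : Nat.card M = 72) : Subgroup.normalizer (M : Set G) = M := by
  have hne : Subgroup.normalizer (M : Set G) ≠ ⊤ :=
    ne_top_of_card hn M (by rw [hM]; norm_num) (by rw [hM]; norm_num)
  have h90 := card_le_90 hn _ hne
  have hdvd : 72 ∣ Nat.card (Subgroup.normalizer (M : Set G)) := by
    rw [← hM]
    exact Subgroup.card_dvd_of_le Subgroup.le_normalizer
  have hpos : 0 < Nat.card (Subgroup.normalizer (M : Set G)) := Nat.card_pos
  symm
  apply Subgroup.eq_of_le_of_card_ge Subgroup.le_normalizer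
  rw [hM]
  omega

/-- the square of an element of order 4 of `M` lies in the normal subgroup `V` of index 18. -/
theorem sq_mem_of_card (M V : Subgroup G) (hM : Nat.card M = 72) (hV : Nat.card V = 4)
    (hVM : V ≤ M) (hMV : M ≤ Subgroup.normalizer (V : Set G)) {y : G} (hyM : y ∈ M)
    (hy4 : y ^ 4 = 1) : y ^ 2 ∈ V := by
  haveI hnorm : (V.subgroupOf M).Normal := (Subgroup.normal_subgroupOf_iff_le_normalizer hVM).2 hMV
  have hVc : Nat.card (V.subgroupOf M) = 4 := by
    rw [← hV]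
    exact Nat.card_congr (Subgroup.subgroupOfEquivOfLe hVM).toEquiv
  have hQ : Nat.card (M ⧸ V.subgroupOf M) = 18 := by
    have h := (V.subgroupOf M).card_mul_index
    rw [hVc, hM] at h
    rw [← Subgroup.index_eq_card]
    omega
  set q : M ⧸ V.subgroupOf M := QuotientGroup.mk (⟨y, hyM⟩ : M) with hq
  have h4 : q ^ 4 = 1 := by
    rw [hq, ← QuotientGroup.mk_pow]
    have : (⟨y, hyM⟩ : M) ^ 4 = 1 := Subtype.ext (by simpa using hy4)
    rw [this]
    rfl
  have h18 : q ^ 18 = 1 := by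
    have := pow_card_eq_one' (G := M ⧸ V.subgroupOf M) (x := q)
    rwa [hQ] at this
  have h2 : q ^ 2 = 1 := by
    calc q ^ 2 = q ^ 18 * ((q ^ 4) ^ 4)⁻¹ := by group
      _ = 1 := by rw [h18, h4]; simp
  rw [hq, ← QuotientGroup.mk_pow, QuotientGroup.eq_one_iff, Subgroup.mem_subgroupOf] at h2
  simpa using h2

theorem Kprime (hn : Nat.card G = 720)
    (h2 : ∀ M : Subgroup G, Nat.card M = 72 → ∃ y ∈ M, orderOf y = 4 ∧ ∃ g : G, g ∉ M ∧
      g⁻¹ * y * g ∈ M ∧ ∀ h : G, h⁻¹ * y ^ 2 * h ∈ M → h ∈ M ∨ g⁻¹ * h ∈ M)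
    (M V : Subgroup G) (hM : Nat.card M = 72) (hV : Nat.card V = 4) (hVM : V ≤ M)
    (hMV : M ≤ Subgroup.normalizer (V : Set G)) : False := by
  obtain ⟨y, hyM, hy, g, hgM, -, hstar⟩ := h2 M hM
  have hy4 : y ^ 4 = 1 := by rw [← hy]; exact pow_orderOf_eq_one y
  have hwV : y ^ 2 ∈ V := sq_mem_of_card M V hM hV hVM hMV hyM hy4
  -- V is a 2-group acting on G ⧸ M with the fixed point M; find a second fixed point
  haveI : Fact (Nat.Prime 2) := prime2
  have hV2 : IsPGroup 2 V := IsPGroup.of_card (n := 2) (by rw [hV]; norm_num)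
  have hidx : Nat.card (G ⧸ M) = 10 := by
    have h := M.card_mul_index
    rw [hM, hn] at h
    rw [← Subgroup.index_eq_card]
    omega
  have hmod := hV2.card_modEq_card_fixedPoints (G ⧸ M)
  rw [hidx] at hmod
  have hfix1 : (QuotientGroup.mk (1 : G) : G ⧸ M) ∈ MulAction.fixedPoints V (G ⧸ M) := by
    intro v
    show ((v : G) • (QuotientGroup.mk (1 : G) : G ⧸ M)) = _
    rw [MulAction.Quotient.smul_mk, smul_eq_mul, mul_one]
    exact QuotientGroup.eq.2 (by simpa using M.inv_mem (hVM v.2))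
  obtain ⟨q, hqfix, hq1⟩ : ∃ q ∈ MulAction.fixedPoints V (G ⧸ M),
      q ≠ (QuotientGroup.mk (1 : G) : G ⧸ M) := by
    by_contra hcon
    push Not at hcon
    have hsub : MulAction.fixedPoints V (G ⧸ M) = {(QuotientGroup.mk (1 : G) : G ⧸ M)} := by
      ext q
      constructor
      · intro hq; exact hcon q hq
      · intro hq; rw [Set.mem_singleton_iff] at hq; rw [hq]; exact hfix1
    rw [hsub, Nat.card_unique] at hmod
    exact absurd hmod (by decide)
  -- the second fixed point is g M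
  have hfix_iff : ∀ h : G, (QuotientGroup.mk h : G ⧸ M) ∈ MulAction.fixedPoints V (G ⧸ M) →
      ∀ v ∈ V, h⁻¹ * v * h ∈ M := by
    intro h hh v hv
    have := hh ⟨v, hv⟩
    have h' : ((v : G) • (QuotientGroup.mk h : G ⧸ M)) = QuotientGroup.mk h := this
    rw [MulAction.Quotient.smul_mk, smul_eq_mul] at h'
    have := QuotientGroup.eq.1 h'
    have h3 : h⁻¹ * v * h = ((v * h)⁻¹ * h)⁻¹ := by group
    rw [h3]
    exact M.inv_mem this
  obtain ⟨h, rfl⟩ := QuotientGroup.mk_surjective q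
  have hhM : h ∉ M := by
    intro hh
    apply hq1
    exact QuotientGroup.eq.2 (by simpa using M.inv_mem hh)
  have hgh : g⁻¹ * h ∈ M := (hstar h (hfix_iff h hqfix _ hwV)).resolve_left hhM
  -- so V fixes g M
  have hVg : ∀ v ∈ V, g⁻¹ * v * g ∈ M := by
    intro v hv
    have h1 := hfix_iff h hqfix v hv
    have h3 : g⁻¹ * v * g = (g⁻¹ * h) * (h⁻¹ * v * h) * (g⁻¹ * h)⁻¹ := by group
    rw [h3]
    exact M.mul_mem (M.mul_mem hgh h1) (M.inv_mem hgh)
  -- g⁻¹ M g ≤ M
  have hconj : ∀ m ∈ M, g⁻¹ * m * g⁻¹⁻¹ ∈ M := by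
    intro m hm
    have hmv : m⁻¹ * y ^ 2 * m ∈ V := by
      have := (Subgroup.mem_normalizer_iff''.1 (hMV hm) (y ^ 2)).1 hwV
      exact this
    have h1 := hVg _ hmv
    have h3 : (m * g)⁻¹ * y ^ 2 * (m * g) = g⁻¹ * (m⁻¹ * y ^ 2 * m) * g := by group
    have h4 := hstar (m * g) (by rw [h3]; exact h1)
    rcases h4 with h4 | h4
    · exfalso
      apply hgM
      have : g = m⁻¹ * (m * g) := by group
      rw [this]
      exact M.mul_mem (M.inv_mem hm) h4
    · have : g⁻¹ * m * g⁻¹⁻¹ = g⁻¹ * (m * g) := by group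
      rw [this]
      exact h4
  have hgN : g⁻¹ ∈ Subgroup.normalizer (M : Set G) :=
    Subgroup.mem_normalizer_fintype (S := (M : Set G)) (fun n hn' => hconj n hn')
  rw [normalizer_eq_self_of_card_72 hn M hM] at hgN
  exact hgM (by simpa using M.inv_mem hgN)

end

end Cfsg.Agent.Lib.Helper5.Ord720
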