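import Mathlib
import Cfsg.Agent.Lib.Helper4.Sylow
import Cfsg.Agent.Lib.Helper4.Simple
import Cfsg.Agent.S0077

/-! No simple group of order 756 = 2^2 * 3^3 * 7 (helper5, for S0496; proof by lead). -/

set_option autoImplicit false

namespace Cfsg.Agent.Lib.Helper5.Ord756

open Cfsg.Agent.Lib.Helper4.Sylow Cfsg.Agent.Lib.Helper4.Simple
open scoped commutatorElement

section
variable {G : Type*} [Group G] [Finite G] [IsSimpleGroup G]

theorem index_ge_eight (hn : Nat.card G = 756) (H : Subgroup G) (hH : H ≠ ⊤) : 8 ≤ H.index := by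
  by_contra h
  push Not at h
  have h1 := two_mul_card_dvd_factorial_of_simple (by rw [hn]; norm_num) H hH
  rw [hn] at h1
  have h2 : (H.index).factorial ∣ (7).factorial := Nat.factorial_dvd_factorial (by omega)
  have h3 : 2 * 756 ∣ Nat.factorial 7 := h1.trans h2
  revert h3
  decide

theorem prime3 : Fact (Nat.Prime 3) := ⟨by norm_num⟩

theorem card_P (hn : Nat.card G = 756) [Fact (Nat.Prime 3)] (P : Sylow 3 G) :
    Nat.card (P : Subgroup G) = 27 := by
  have hn' : Nat.card G = 3 ^ 3 * 28 := by rw [hn]; norm_num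
  have := card_sylow_of_card_eq hn' (by norm_num) P
  rw [show Nat.card (P : Subgroup G) = Nat.card P from rfl, this]
  norm_num

theorem card_sylow3 (hn : Nat.card G = 756) [Fact (Nat.Prime 3)] : Nat.card (Sylow 3 G) = 28 := by
  have hn' : Nat.card G = 3 ^ 3 * 28 := by rw [hn]; norm_num
  have hdvd : Nat.card (Sylow 3 G) ∣ 28 := card_sylow_dvd_of_card_eq hn' (by norm_num)
  have hmod : Nat.card (Sylow 3 G) % 3 = 1 % 3 := card_sylow_modEq_one 3 G
  obtain ⟨P⟩ : Nonempty (Sylow 3 G) := inferInstance
  have hP : Nat.card P = 27 := card_P hn P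
  have hne1 := card_sylow_ne_one_of_simple P (by rw [hP]; norm_num) (by rw [hP, hn]; norm_num)
  have hidx : (Subgroup.normalizer ((P : Subgroup G) : Set G)).index = Nat.card (Sylow 3 G) := by
    rw [P.card_eq_index_normalizer]
    rfl
  have hNtop : Subgroup.normalizer ((P : Subgroup G) : Set G) ≠ ⊤ := by
    intro h
    rw [h, Subgroup.index_top] at hidx
    exact hne1 hidx.symm
  have h8 := index_ge_eight hn _ hNtop
  rw [hidx] at h8
  generalize Nat.card (Sylow 3 G) = d at *
  have hd28 : d ≤ 28 := Nat.le_of_dvd (by norm_num) hdvd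
  interval_cases d <;> omega

theorem normalizer_eq (hn : Nat.card G = 756) [Fact (Nat.Prime 3)] (P : Sylow 3 G) :
    Subgroup.normalizer ((P : Subgroup G) : Set G) = P := by
  have h1 := card_sylow_mul_card_normalizer P
  rw [card_sylow3 hn, hn] at h1
  have h2 : Nat.card (Subgroup.normalizer ((P : Subgroup G) : Set G)) = 27 := by omega
  symm
  apply Subgroup.eq_of_le_of_card_ge Subgroup.le_normalizer
  rw [h2, card_P hn P]

theorem eq_of_le (hn : Nat.card G = 756) [Fact (Nat.Prime 3)] (P : Sylow 3 G) (H : Subgroup G)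
    (hPH : (P : Subgroup G) ≤ H) (hH : H ≠ ⊤) : H = P := by
  have h27 : 27 ∣ Nat.card H := by
    rw [← card_P hn P]
    exact Subgroup.card_dvd_of_le hPH
  have hidx := index_ge_eight hn H hH
  have hmul := H.card_mul_index
  rw [hn] at hmul
  obtain ⟨k, hk⟩ := h27
  have hk28 : k * H.index = 28 := by
    have : 27 * (k * H.index) = 27 * 28 := by rw [← mul_assoc, ← hk, hmul]
    exact Nat.eq_of_mul_eq_mul_left (by norm_num) this
  have hk3 : k ≤ 3 := by nlinarith
  have hPidx : (P : Subgroup G).index = 28 :=
    index_sylow_of_card_eq (show Nat.card G = 3 ^ 3 * 28 by rw [hn]; norm_num) (by norm_num) P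
  interval_cases k
  · omega
  · symm
    apply Subgroup.eq_of_le_of_card_ge hPH
    rw [hk, card_P hn P]
  · exfalso
    have hi14 : H.index = 14 := by omega
    have hrel : (P : Subgroup G).relIndex H = 2 := by
      have := Subgroup.relIndex_mul_index hPH
      rw [hi14, hPidx] at this
      omega
    have : ((P : Subgroup G).subgroupOf H).Normal := Subgroup.normal_of_index_eq_two hrel
    have hle : H ≤ Subgroup.normalizer ((P : Subgroup G) : Set G) :=
      Subgroup.le_normalizer_of_normal_subgroupOf hPH
    rw [normalizer_eq hn P] at hle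
    have := Subgroup.card_le_of_le hle
    rw [hk, card_P hn P] at this
    omega
  · omega

/-- the centre `Z(P)` of a Sylow subgroup, as a subgroup of `G`. -/
def ZP [Fact (Nat.Prime 3)] (P : Sylow 3 G) : Subgroup G :=
  (P : Subgroup G) ⊓ Subgroup.centralizer ((P : Subgroup G) : Set G)

theorem ZP_ne_bot (hn : Nat.card G = 756) [Fact (Nat.Prime 3)] (P : Sylow 3 G) : ZP P ≠ ⊥ := by
  have hPc := card_P hn P
  haveI : Nontrivial (P : Subgroup G) := by
    apply Finite.one_lt_card_iff_nontrivial.1
    rw [hPc]; norm_num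
  have hnt : Nontrivial (Subgroup.center (P : Subgroup G)) := (P.isPGroup').center_nontrivial
  obtain ⟨z, hz, hz1⟩ := (Subgroup.nontrivial_iff_exists_ne_one _).1 hnt
  intro hbot
  have hzZ : (z : G) ∈ ZP P := by
    refine Subgroup.mem_inf.2 ⟨z.2, ?_⟩
    rw [Subgroup.mem_centralizer_iff]
    intro g hg
    have := Subgroup.mem_center_iff.1 hz ⟨g, hg⟩
    exact congrArg Subtype.val this
  rw [hbot, Subgroup.mem_bot] at hzZ
  exact hz1 (Subtype.ext hzZ)

theorem comm_of_mem_ZP [Fact (Nat.Prime 3)] (P : Sylow 3 G) {z x : G} (hz : z ∈ ZP P)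
    (hx : x ∈ (P : Subgroup G)) : x * z = z * x :=
  Subgroup.mem_centralizer_iff.1 (Subgroup.mem_inf.1 hz).2 x hx

theorem not_normal_of_card (hn : Nat.card G = 756) (D : Subgroup G) (h1 : Nat.card D ≠ 1)
    (h2 : Nat.card D ≠ 756) : Subgroup.normalizer (D : Set G) ≠ ⊤ := by
  intro h
  have hN : D.Normal := Subgroup.normalizer_eq_top_iff.1 h
  rcases hN.eq_bot_or_eq_top with hb | ht
  · apply h1; rw [hb]; exact Subgroup.card_bot
  · apply h2; rw [ht, Subgroup.card_top, hn]

theorem card_dvd_27 (hn : Nat.card G = 756) [Fact (Nat.Prime 3)] (P : Sylow 3 G) (D : Subgroup G)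
    (hD : D ≤ P) : Nat.card D = 1 ∨ Nat.card D = 3 ∨ Nat.card D = 9 ∨ Nat.card D = 27 := by
  have h := Subgroup.card_dvd_of_le hD
  rw [card_P hn P] at h
  have hle : Nat.card D ≤ 27 := Nat.le_of_dvd (by norm_num) h
  generalize Nat.card D = d at *
  interval_cases d <;> omega

theorem perfect (hn : Nat.card G = 756) [Fact (Nat.Prime 3)] : commutator G = ⊤ := by
  rcases (inferInstance : (commutator G).Normal).eq_bot_or_eq_top with hb | ht
  · exfalso
    obtain ⟨P⟩ : Nonempty (Sylow 3 G) := inferInstance
    have hN := normalizer_eq hn P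
    have hne := not_normal_of_card hn (P : Subgroup G) (by rw [card_P hn P]; norm_num)
      (by rw [card_P hn P]; norm_num)
    apply hne
    rw [Subgroup.eq_top_iff']
    intro g
    rw [Subgroup.mem_normalizer_iff]
    intro h
    have hc : ⁅g, h⁆ = 1 := by
      have : ⁅g, h⁆ ∈ commutator G := by
        rw [commutator_def]
        exact Subgroup.commutator_mem_commutator (Subgroup.mem_top g) (Subgroup.mem_top h)
      rwa [hb, Subgroup.mem_bot] at this
    have hgh : g * h * g⁻¹ = h := by
      rw [commutatorElement_def] at hc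
      have := congrArg (· * h) hc
      simpa using this
    rw [hgh]
  · exact ht

theorem no_simple_756 (hn : Nat.card G = 756) : False := by
  haveI : Fact (Nat.Prime 3) := prime3
  obtain ⟨P⟩ : Nonempty (Sylow 3 G) := inferInstance
  have hPc := card_P hn P
  have hZne := ZP_ne_bot hn P
  have hZP : ZP P ≤ P := inf_le_left
  have hZC : ZP P ≤ Subgroup.centralizer ((P : Subgroup G) : Set G) := inf_le_right
  have hZc1 : Nat.card (ZP P) ≠ 1 := fun h => hZne (Subgroup.card_eq_one.1 h)
  by_cases hW : Cfsg.IsWeaklyClosed (ZP P) P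
  · -- weakly closed: Gruen
    have hG := Cfsg.Agent.S0077.result P (ZP P) hZC hW
    have hPN : (P : Subgroup G) ≤ Subgroup.normalizer ((ZP P : Subgroup G) : Set G) :=
      (Subgroup.le_centralizer_iff.1 hZC).trans (Subgroup.centralizer_le_normalizer _)
    have hNne : Subgroup.normalizer ((ZP P : Subgroup G) : Set G) ≠ ⊤ := by
      apply not_normal_of_card hn _ hZc1
      intro h
      have := Subgroup.card_le_of_le hZP
      rw [h, hPc] at this
      omega
    have hNZ := eq_of_le hn P _ hPN hNne
    rw [hNZ, perfect hn, top_inf_eq] at hG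
    have hle : ⁅(P : Subgroup G), (P : Subgroup G)⁆ ≤ P := Subgroup.commutator_le_self _
    rw [inf_eq_left.2 hle, ← Subgroup.map_subtype_commutator] at hG
    have htop : commutator (P : Subgroup G) = ⊤ := by
      apply Subgroup.map_injective (P : Subgroup G).subtype_injective
      rw [← hG, ← MonoidHom.range_eq_map, Subgroup.range_subtype]
    haveI : Nontrivial (P : Subgroup G) := by
      apply Finite.one_lt_card_iff_nontrivial.1
      rw [hPc]; norm_num
    haveI : Group.IsNilpotent (P : Subgroup G) := (P.isPGroup').isNilpotent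
    have := Group.IsSolvable.commutator_lt_top_of_nontrivial (P : Subgroup G)
    rw [htop] at this
    exact lt_irrefl _ this
  · -- not weakly closed
    have hW' : ∃ g : G, (ZP P).map (MulAut.conj g).toMonoidHom ≤ P ∧
        (ZP P).map (MulAut.conj g).toMonoidHom ≠ ZP P := by
      by_contra hcon
      push Not at hcon
      exact hW ⟨hZP, hcon⟩
    obtain ⟨g, hgP, hgne⟩ := hW'
    set φ : G →* G := (MulAut.conj g).toMonoidHom with hφ
    have hφinj : Function.Injective φ := (MulAut.conj g).injective
    set Z' := (ZP P).map φ with hZ'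
    have hQcard : Nat.card ((P : Subgroup G).map φ) = 3 ^ (Nat.card G).factorization 3 := by
      rw [Subgroup.card_map_of_injective hφinj]
      exact P.card_eq_multiplicity
    set Q : Sylow 3 G := Sylow.ofCard ((P : Subgroup G).map φ) hQcard with hQ
    have hQcoe : (Q : Subgroup G) = (P : Subgroup G).map φ := Sylow.coe_ofCard _ _
    have hZ'Q : Z' ≤ Q := by rw [hQcoe]; exact Subgroup.map_mono hZP
    have hZ'card : Nat.card Z' = Nat.card (ZP P) := Subgroup.card_map_of_injective hφinj
    -- Z' is centralized by Q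
    have hQC : (Q : Subgroup G) ≤ Subgroup.centralizer ((Z' : Subgroup G) : Set G) := by
      rw [hQcoe]
      rintro q ⟨p, hp, rfl⟩
      rw [Subgroup.mem_centralizer_iff]
      rintro x ⟨z, hz, rfl⟩
      rw [← map_mul, ← map_mul, comm_of_mem_ZP P hz hp]
    have hQN : (Q : Subgroup G) ≤ Subgroup.normalizer ((Z' : Subgroup G) : Set G) :=
      hQC.trans (Subgroup.centralizer_le_normalizer _)
    have hNne : Subgroup.normalizer ((Z' : Subgroup G) : Set G) ≠ ⊤ := by
      apply not_normal_of_card hn _ (by rw [hZ'card]; exact hZc1)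
      intro h
      have := Subgroup.card_le_of_le hgP
      rw [h, hPc] at this
      omega
    have hNZ' := eq_of_le hn Q _ hQN hNne
    -- Z ≤ Q
    have hZQ : ZP P ≤ Q := by
      rw [← hNZ']
      refine le_trans ?_ (Subgroup.centralizer_le_normalizer _)
      intro z hz
      rw [Subgroup.mem_centralizer_iff]
      intro x hx
      exact comm_of_mem_ZP P hz (hgP hx)
    set D := (P : Subgroup G) ⊓ (Q : Subgroup G) with hD
    have hDP : D ≤ P := inf_le_left
    have hDQ : D ≤ Q := inf_le_right
    have hA : ZP P ⊔ Z' ≤ D := sup_le (le_inf hZP hZQ) (le_inf hgP hZ'Q)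
    -- Z' is not contained in Z
    have hnle : ¬ Z' ≤ ZP P := by
      intro h
      apply hgne
      exact Subgroup.eq_of_le_of_card_ge h (by rw [hZ'card])
    -- P ≠ Q
    have hPQ : ¬ (P : Subgroup G) ≤ Q := by
      intro h
      apply hnle
      intro x hx
      refine Subgroup.mem_inf.2 ⟨hgP hx, ?_⟩
      rw [Subgroup.mem_centralizer_iff]
      intro p hp
      exact Subgroup.mem_centralizer_iff.1 (Subgroup.le_centralizer_iff.1 hQC hx) p (h hp)
    have hDcard : Nat.card D = 9 := by
      have h1 := card_dvd_27 hn P D hDP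
      have h2 := card_dvd_27 hn P (ZP P ⊔ Z') (hA.trans hDP)
      have h3 := card_dvd_27 hn P (ZP P) hZP
      have h4 : Nat.card (ZP P) ∣ Nat.card (ZP P ⊔ Z' : Subgroup G) :=
        Subgroup.card_dvd_of_le le_sup_left
      have h5 : Nat.card (ZP P ⊔ Z' : Subgroup G) ∣ Nat.card D := Subgroup.card_dvd_of_le hA
      have h6 : Nat.card (ZP P ⊔ Z' : Subgroup G) ≠ Nat.card (ZP P) := by
        intro h
        apply hnle
        have := Subgroup.eq_of_le_of_card_ge (le_sup_left : ZP P ≤ ZP P ⊔ Z') (by rw [h])
        rw [this]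
        exact le_sup_right
      have h7 : Nat.card D ≠ 27 := by
        intro h
        apply hPQ
        have : D = P := Subgroup.eq_of_le_of_card_ge hDP (by rw [h, hPc])
        rw [← this]
        exact hDQ
      rcases h1 with h1 | h1 | h1 | h1 <;> rcases h2 with h2 | h2 | h2 | h2 <;>
        rcases h3 with h3 | h3 | h3 | h3 <;> rw [h1, h2] at h5 <;> rw [h2, h3] at h4 <;>
        simp_all
    -- D is normal in P and in Q
    have hPidx : (P : Subgroup G).index = 28 :=
      index_sylow_of_card_eq (show Nat.card G = 3 ^ 3 * 28 by rw [hn]; norm_num) (by norm_num) P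
    have hQidx : (Q : Subgroup G).index = 28 :=
      index_sylow_of_card_eq (show Nat.card G = 3 ^ 3 * 28 by rw [hn]; norm_num) (by norm_num) Q
    have hDidx : D.index = 84 := by
      have := D.card_mul_index
      rw [hDcard, hn] at this
      omega
    have hnormal : ∀ R : Sylow 3 G, D ≤ R → (R : Subgroup G).index = 28 →
        (R : Subgroup G) ≤ Subgroup.normalizer ((D : Subgroup G) : Set G) := by
      intro R hDR hRidx
      have hrel : D.relIndex R = 3 := by
        have := Subgroup.relIndex_mul_index hDR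
        rw [hRidx, hDidx] at this
        omega
      have hRc := card_P hn R
      have : (D.subgroupOf R).Normal := by
        apply Subgroup.normal_of_index_eq_minFac_card
        rw [show Nat.card (R : Subgroup G) = 27 from hRc]
        rw [show (D.subgroupOf R).index = 3 from hrel]
        norm_num
      exact Subgroup.le_normalizer_of_normal_subgroupOf hDR
    have hPND := hnormal P hDP hPidx
    have hQND := hnormal Q hDQ hQidx
    have hNDne : Subgroup.normalizer ((D : Subgroup G) : Set G) ≠ ⊤ :=
      not_normal_of_card hn D (by rw [hDcard]; norm_num) (by rw [hDcard]; norm_num)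
    have hND := eq_of_le hn Q _ hQND hNDne
    rw [hND] at hPND
    exact hPQ hPND

end

end Cfsg.Agent.Lib.Helper5.Ord756
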